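import Cfsg.Agent.EqLemmas

/-!
Matrices over the field with four elements for the images of `a, …, f` in `G₂(4)` (two bit planes per row) and the root
elements as words in them (helper11).
-/

set_option autoImplicit false

namespace Cfsg.Agent.SuzGTwo

/-- The six images, indexed by the letters. -/
def genTab : List (List (ℕ × ℕ)) := [
  [(5, 0), (2, 0), (4, 0), (8, 0), (16, 0), (32, 0), (64, 0), (128, 0), (264, 0), (512, 0), (1040, 0), (2080, 0), (4224, 0), (8198, 0)],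
  [(9285, 8716), (12063, 3777), (3951, 11466), (332, 284), (10461, 10141), (9447, 11129), (8957, 3891), (12605, 8028), (3664, 10445), (16070, 9613), (10000, 1552), (3005, 7992), (15133, 15834), (16219, 6598)],
  [(5, 0), (130, 0), (4, 0), (12, 0), (16, 0), (32, 0), (96, 0), (128, 0), (397, 0), (512, 0), (1552, 0), (2080, 0), (4224, 0), (12422, 0)],
  [(69, 4), (2, 0), (4, 0), (8, 0), (24, 0), (40, 0), (64, 0), (184, 0), (264, 8), (578, 0), (1304, 24), (2344, 40), (7608, 184), (8194, 6)],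
  [(677, 160), (178, 180), (4, 0), (188, 4), (148, 4), (164, 4), (602, 24), (128, 0), (7675, 247), (640, 132), (5267, 159), (6817, 693), (4740, 544), (15374, 7413)],
  [(1, 4), (2, 0), (4, 0), (8, 0), (16, 0), (32, 0), (64, 0), (128, 0), (256, 8), (512, 0), (1024, 16), (2048, 32), (4096, 128), (8196, 6)]]

/-- The root elements `x_r(t)`, `t = 0, 1, w, w²` (index `4 r + t`): matrix and word (letters in the order of application). -/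
def rootTab : List (List (ℕ × ℕ) × List ℕ) := [
  ([(1, 0), (2, 0), (4, 0), (8, 0), (16, 0), (32, 0), (64, 0), (128, 0), (256, 0), (512, 0), (1024, 0), (2048, 0), (4096, 0), (8192, 0)],
    []),
  ([(8193, 0), (2, 0), (8198, 0), (264, 0), (1040, 0), (2080, 0), (64, 0), (4224, 0), (256, 0), (512, 0), (1024, 0), (2048, 0), (4096, 0), (8192, 0)],
    [4, 3, 2, 3, 4, 1, 2, 3, 2, 0, 1, 5, 1, 2, 3, 4, 1, 2, 3, 0, 1, 2, 3, 4]),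
  ([(1, 8192), (2, 0), (8196, 8194), (8, 256), (16, 1024), (32, 2048), (64, 0), (128, 4096), (256, 0), (512, 0), (1024, 0), (2048, 0), (4096, 0), (8192, 0)],
    [4, 3, 2, 3, 4, 1, 2, 3, 1, 2, 1, 0, 1, 5, 2, 1, 0, 1, 2, 3, 4, 1, 2, 3, 1, 2, 3, 4]),
  ([(8193, 8192), (2, 0), (6, 8194), (264, 256), (1040, 1024), (2080, 2048), (64, 0), (4224, 4096), (256, 0), (512, 0), (1024, 0), (2048, 0), (4096, 0), (8192, 0)],
    [4, 3, 2, 3, 4, 1, 2, 3, 1, 2, 1, 0, 1, 5, 2, 1, 0, 1, 2, 3, 4, 1, 2, 3, 1, 2, 3, 4, 4, 3, 2, 3, 4, 1, 2, 3, 2, 0, 1, 5, 1, 2, 3, 4, 1, 2, 3, 0, 1, 2, 3, 4]),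
  ([(1, 0), (2, 0), (4, 0), (8, 0), (16, 0), (32, 0), (64, 0), (128, 0), (256, 0), (512, 0), (1024, 0), (2048, 0), (4096, 0), (8192, 0)],
    []),
  ([(4097, 0), (4098, 0), (132, 0), (4107, 0), (528, 0), (32, 0), (2112, 0), (128, 0), (8448, 0), (512, 0), (1024, 0), (2048, 0), (4096, 0), (8192, 0)],
    [5, 4, 3, 2, 3, 4, 1, 2, 3, 2, 1, 0, 1, 2, 3, 2, 1, 5, 4, 2, 3, 2, 3, 4]),
  ([(1, 4096), (2, 4096), (4, 128), (4104, 4099), (16, 512), (32, 0), (64, 2048), (128, 0), (256, 8192), (512, 0), (1024, 0), (2048, 0), (4096, 0), (8192, 0)],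
    [4, 3, 2, 3, 4, 1, 2, 3, 2, 1, 5, 1, 2, 3, 4, 1, 2, 3, 1, 2, 3, 4]),
  ([(4097, 4096), (4098, 4096), (132, 128), (11, 4099), (528, 512), (32, 0), (2112, 2048), (128, 0), (8448, 8192), (512, 0), (1024, 0), (2048, 0), (4096, 0), (8192, 0)],
    [4, 3, 2, 3, 4, 1, 2, 3, 2, 1, 5, 1, 2, 3, 4, 1, 2, 3, 1, 2, 3, 4, 5, 4, 3, 2, 3, 4, 1, 2, 3, 2, 1, 0, 1, 2, 3, 2, 1, 5, 4, 2, 3, 2, 3, 4]),
  ([(1, 0), (2, 0), (4, 0), (8, 0), (16, 0), (32, 0), (64, 0), (128, 0), (256, 0), (512, 0), (1024, 0), (2048, 0), (4096, 0), (8192, 0)],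
    []),
  ([(1, 0), (2050, 0), (4644, 0), (9288, 0), (2065, 0), (4128, 0), (8256, 0), (128, 0), (256, 0), (4608, 0), (9216, 0), (2048, 0), (4096, 0), (8192, 0)],
    [1, 5, 1, 2, 1, 0, 1, 5, 3, 0, 1, 2, 3, 1, 2, 3, 1, 0]),
  ([(1, 0), (2, 2048), (4612, 544), (9224, 1088), (2064, 2049), (4128, 4096), (8256, 8192), (128, 0), (256, 0), (512, 4096), (1024, 8192), (2048, 0), (4096, 0), (8192, 0)],
    [5, 3, 1, 2, 0, 1, 5, 4, 3, 2, 3, 4, 1, 2, 3, 2, 0, 1, 5, 4, 2, 3, 1, 2, 3, 4, 3, 0, 1, 0]),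
  ([(1, 0), (2050, 2048), (4132, 544), (8264, 1088), (17, 2049), (32, 4096), (64, 8192), (128, 0), (256, 0), (4608, 4096), (9216, 8192), (2048, 0), (4096, 0), (8192, 0)],
    [5, 3, 1, 2, 0, 1, 5, 4, 3, 2, 3, 4, 1, 2, 3, 2, 0, 1, 5, 4, 2, 3, 1, 2, 3, 4, 3, 0, 1, 0, 1, 5, 1, 2, 1, 0, 1, 5, 3, 0, 1, 2, 3, 1, 2, 3, 1, 0]),
  ([(1, 0), (2, 0), (4, 0), (8, 0), (16, 0), (32, 0), (64, 0), (128, 0), (256, 0), (512, 0), (1024, 0), (2048, 0), (4096, 0), (8192, 0)],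
    []),
  ([(1025, 0), (1026, 0), (340, 0), (8, 0), (272, 0), (1059, 0), (320, 0), (10880, 0), (256, 0), (8704, 0), (1024, 0), (10240, 0), (4096, 0), (8192, 0)],
    [1, 2, 3, 0, 1, 2, 1, 0, 1, 5, 3, 4, 2, 3, 0, 1, 0, 1, 2, 3, 1, 2, 0, 1]),
  ([(1, 1024), (2, 1024), (324, 80), (8, 0), (272, 256), (1056, 1027), (64, 256), (10368, 2560), (256, 0), (8704, 8192), (1024, 0), (2048, 8192), (4096, 0), (8192, 0)],
    [2, 3, 1, 0, 1, 2, 1, 0, 1, 5, 3, 4, 3, 2, 1, 0, 1, 2, 3, 1, 2, 0]),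
  ([(1025, 1024), (1026, 1024), (276, 80), (8, 0), (16, 256), (35, 1027), (320, 256), (8832, 2560), (256, 0), (512, 8192), (1024, 0), (10240, 8192), (4096, 0), (8192, 0)],
    [2, 3, 1, 0, 1, 2, 1, 0, 1, 5, 3, 4, 3, 2, 1, 0, 1, 2, 3, 1, 2, 0, 1, 2, 3, 0, 1, 2, 1, 0, 1, 5, 3, 4, 2, 3, 0, 1, 0, 1, 2, 3, 1, 2, 0, 1]),
  ([(1, 0), (2, 0), (4, 0), (8, 0), (16, 0), (32, 0), (64, 0), (128, 0), (256, 0), (512, 0), (1024, 0), (2048, 0), (4096, 0), (8192, 0)],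
    []),
  ([(513, 0), (2, 0), (4, 0), (184, 0), (144, 0), (160, 0), (578, 0), (128, 0), (7424, 0), (512, 0), (5120, 0), (6144, 0), (4096, 0), (8192, 0)],
    [1, 5, 3, 4, 0, 1, 0, 1, 2, 3, 2, 1, 0, 1, 5, 4, 3, 0, 1, 0]),
  ([(1, 512), (2, 0), (4, 0), (168, 48), (144, 128), (32, 128), (576, 514), (128, 0), (6400, 3072), (512, 0), (5120, 4096), (2048, 4096), (4096, 0), (8192, 0)],
    [1, 5, 1, 2, 3, 4, 1, 2, 3, 2, 1, 5, 4, 3, 1, 2, 1, 0]),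
  ([(513, 512), (2, 0), (4, 0), (152, 48), (16, 128), (160, 128), (66, 514), (128, 0), (5376, 3072), (512, 0), (1024, 4096), (6144, 4096), (4096, 0), (8192, 0)],
    [1, 5, 1, 2, 3, 4, 1, 2, 3, 2, 1, 5, 4, 3, 1, 2, 1, 0, 1, 5, 3, 4, 0, 1, 0, 1, 2, 3, 2, 1, 0, 1, 5, 4, 3, 0, 1, 0]),
  ([(1, 0), (2, 0), (4, 0), (8, 0), (16, 0), (32, 0), (64, 0), (128, 0), (256, 0), (512, 0), (1024, 0), (2048, 0), (4096, 0), (8192, 0)],
    []),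
  ([(1, 0), (258, 0), (12, 0), (8, 0), (16, 0), (96, 0), (64, 0), (385, 0), (256, 0), (1536, 0), (1024, 0), (2048, 0), (12288, 0), (8192, 0)],
    [3, 2, 3, 2, 1, 5, 4, 3, 1, 2, 3, 4, 1, 2, 3, 2, 1, 0, 1, 5, 4, 3, 2, 3, 4, 1, 0, 1]),
  ([(1, 0), (2, 256), (4, 8), (8, 0), (16, 0), (32, 64), (64, 0), (384, 257), (256, 0), (512, 1024), (1024, 0), (2048, 0), (4096, 8192), (8192, 0)],
    [5, 1, 0, 1, 5, 0, 1, 2, 3, 2, 1, 5, 4, 3, 2, 3, 4, 1, 2, 3, 2, 1, 5, 0, 1, 0, 1, 5]),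
  ([(1, 0), (258, 256), (12, 8), (8, 0), (16, 0), (96, 64), (64, 0), (129, 257), (256, 0), (1536, 1024), (1024, 0), (2048, 0), (12288, 8192), (8192, 0)],
    [5, 1, 0, 1, 5, 0, 1, 2, 3, 2, 1, 5, 4, 3, 2, 3, 4, 1, 2, 3, 2, 1, 5, 0, 1, 0, 1, 5, 3, 2, 3, 2, 1, 5, 4, 3, 1, 2, 3, 4, 1, 2, 3, 2, 1, 0, 1, 5, 4, 3, 2, 3, 4, 1, 0, 1]),
  ([(1, 0), (2, 0), (4, 0), (8, 0), (16, 0), (32, 0), (64, 0), (128, 0), (256, 0), (512, 0), (1024, 0), (2048, 0), (4096, 0), (8192, 0)],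
    []),
  ([(1, 0), (130, 0), (4, 0), (12, 0), (16, 0), (32, 0), (96, 0), (128, 0), (385, 0), (512, 0), (1536, 0), (2048, 0), (4096, 0), (12288, 0)],
    [2, 0]),
  ([(1, 0), (2, 128), (4, 0), (8, 4), (16, 0), (32, 0), (64, 32), (128, 0), (384, 129), (512, 0), (1024, 512), (2048, 0), (4096, 0), (8192, 4096)],
    [1, 5, 1, 2, 1, 0, 1, 5, 1, 2, 1]),
  ([(1, 0), (130, 128), (4, 0), (12, 4), (16, 0), (32, 0), (96, 32), (128, 0), (257, 129), (512, 0), (1536, 512), (2048, 0), (4096, 0), (12288, 4096)],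
    [1, 5, 1, 2, 1, 0, 1, 5, 1, 2, 1, 2, 0]),
  ([(1, 0), (2, 0), (4, 0), (8, 0), (16, 0), (32, 0), (64, 0), (128, 0), (256, 0), (512, 0), (1024, 0), (2048, 0), (4096, 0), (8192, 0)],
    []),
  ([(65, 0), (2, 0), (4, 0), (8, 0), (24, 0), (40, 0), (64, 0), (184, 0), (256, 0), (578, 0), (1280, 0), (2304, 0), (7424, 0), (8192, 0)],
    [5, 3, 0]),
  ([(1, 64), (2, 0), (4, 0), (8, 0), (16, 8), (40, 8), (64, 0), (152, 48), (256, 0), (576, 66), (1024, 256), (2304, 256), (5376, 3072), (8192, 0)],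
    [5, 4, 2, 3, 1, 0, 1, 2, 0, 1, 5, 3, 2, 3, 4, 3, 2, 3, 1, 2, 3, 4, 0, 1, 0, 1, 2]),
  ([(65, 64), (2, 0), (4, 0), (8, 0), (24, 8), (32, 8), (64, 0), (168, 48), (256, 0), (514, 66), (1280, 256), (2048, 256), (6400, 3072), (8192, 0)],
    [5, 4, 2, 3, 1, 0, 1, 2, 0, 1, 5, 3, 2, 3, 4, 3, 2, 3, 1, 2, 3, 4, 0, 1, 0, 1, 2, 5, 3, 0]),
  ([(1, 0), (2, 0), (4, 0), (8, 0), (16, 0), (32, 0), (64, 0), (128, 0), (256, 0), (512, 0), (1024, 0), (2048, 0), (4096, 0), (8192, 0)],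
    []),
  ([(33, 0), (34, 0), (4, 0), (8, 0), (20, 0), (32, 0), (68, 0), (128, 0), (340, 0), (640, 0), (1059, 0), (2176, 0), (4096, 0), (10880, 0)],
    [2, 1, 0, 1, 2, 3, 2, 1, 5, 2, 3, 4, 0, 1, 2, 3, 2, 1, 5, 4, 3, 0, 1, 2, 3, 1, 2, 1, 0, 1]),
  ([(1, 32), (2, 32), (4, 0), (8, 0), (16, 4), (32, 0), (68, 4), (128, 0), (276, 80), (512, 128), (1056, 35), (2176, 128), (4096, 0), (8832, 2560)],
    [3, 1, 2, 3, 2, 1, 5, 0, 1, 2, 3, 4, 2, 3, 2, 1, 5, 1, 0, 1, 2, 3, 2, 3, 1]),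
  ([(33, 32), (34, 32), (4, 0), (8, 0), (20, 4), (32, 0), (64, 4), (128, 0), (324, 80), (640, 128), (1027, 35), (2048, 128), (4096, 0), (10368, 2560)],
    [3, 1, 2, 3, 2, 1, 5, 0, 1, 2, 3, 4, 2, 3, 2, 1, 5, 1, 0, 1, 2, 3, 2, 3, 1, 2, 1, 0, 1, 2, 3, 2, 1, 5, 2, 3, 4, 0, 1, 2, 3, 2, 1, 5, 4, 3, 0, 1, 2, 3, 1, 2, 1, 0, 1]),
  ([(1, 0), (2, 0), (4, 0), (8, 0), (16, 0), (32, 0), (64, 0), (128, 0), (256, 0), (512, 0), (1024, 0), (2048, 0), (4096, 0), (8192, 0)],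
    []),
  ([(1, 0), (18, 0), (4, 0), (8, 0), (16, 0), (36, 0), (72, 0), (128, 0), (256, 0), (516, 0), (1032, 0), (2065, 0), (4644, 0), (9288, 0)],
    [1, 2, 1, 0, 1, 5, 1, 2, 3, 1, 0, 1, 2, 3, 4, 3, 2, 3, 1, 2, 0, 1, 5, 1, 2, 1, 0, 1, 0]),
  ([(1, 0), (2, 16), (4, 0), (8, 0), (16, 0), (32, 4), (64, 8), (128, 0), (256, 0), (516, 4), (1032, 8), (2064, 17), (4132, 544), (8264, 1088)],
    [5, 1, 2, 0, 1, 5, 3, 4, 1, 0, 1, 2, 3, 2, 0, 1, 0, 1, 5, 4, 3, 1, 2, 0, 1, 0]),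
  ([(1, 0), (18, 16), (4, 0), (8, 0), (16, 0), (36, 4), (72, 8), (128, 0), (256, 0), (512, 4), (1024, 8), (2049, 17), (4612, 544), (9224, 1088)],
    [5, 1, 2, 0, 1, 5, 3, 4, 1, 0, 1, 2, 3, 2, 0, 1, 0, 1, 5, 4, 3, 1, 2, 0, 1, 0, 1, 2, 1, 0, 1, 5, 1, 2, 3, 1, 0, 1, 2, 3, 4, 3, 2, 3, 1, 2, 0, 1, 5, 1, 2, 1, 0, 1, 0]),
  ([(1, 0), (2, 0), (4, 0), (8, 0), (16, 0), (32, 0), (64, 0), (128, 0), (256, 0), (512, 0), (1024, 0), (2048, 0), (4096, 0), (8192, 0)],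
    []),
  ([(9, 0), (10, 0), (4, 0), (8, 0), (16, 0), (32, 0), (64, 0), (132, 0), (256, 0), (528, 0), (1024, 0), (2112, 0), (4107, 0), (8448, 0)],
    [5, 4, 3, 2, 3, 4]),
  ([(1, 8), (2, 8), (4, 0), (8, 0), (16, 0), (32, 0), (64, 0), (128, 4), (256, 0), (512, 16), (1024, 0), (2048, 64), (4104, 11), (8192, 256)],
    [1, 5, 4, 3, 1, 2, 1, 0, 1, 5, 1, 2, 3, 4, 1, 0]),
  ([(9, 8), (10, 8), (4, 0), (8, 0), (16, 0), (32, 0), (64, 0), (132, 4), (256, 0), (528, 16), (1024, 0), (2112, 64), (4099, 11), (8448, 256)],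
    [1, 5, 4, 3, 1, 2, 1, 0, 1, 5, 1, 2, 3, 4, 1, 0, 5, 4, 3, 2, 3, 4]),
  ([(1, 0), (2, 0), (4, 0), (8, 0), (16, 0), (32, 0), (64, 0), (128, 0), (256, 0), (512, 0), (1024, 0), (2048, 0), (4096, 0), (8192, 0)],
    []),
  ([(5, 0), (2, 0), (4, 0), (8, 0), (16, 0), (32, 0), (64, 0), (128, 0), (264, 0), (512, 0), (1040, 0), (2080, 0), (4224, 0), (8198, 0)],
    [0]),
  ([(1, 4), (2, 0), (4, 0), (8, 0), (16, 0), (32, 0), (64, 0), (128, 0), (256, 8), (512, 0), (1024, 16), (2048, 32), (4096, 128), (8196, 6)],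
    [5]),
  ([(5, 4), (2, 0), (4, 0), (8, 0), (16, 0), (32, 0), (64, 0), (128, 0), (264, 8), (512, 0), (1040, 16), (2080, 32), (4224, 128), (8194, 6)],
    [5, 0])]

end Cfsg.Agent.SuzGTwo
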