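import Cfsg.Agent.Lib.SuzGTwo.Matrices
import Cfsg.Agent.Lib.CosetEnum.BoundSuz
import Cfsg.Agent.Lib.ChevOrder.Final
import Cfsg.Agent.Lib.Chev.DataG2
import Cfsg.Agent.S1694

/-!
The subgroup of Suz generated by `a, …, f` is the Chevalley group `G₂(4)` (helper11).

The coset tables bounding that subgroup use relators in `a, …, f` only, so they bound the group presented by those
relators; it maps onto the subgroup and onto `G₂(4)`.

* `sixSetup`, `card_six_le`, `matHom`, `suzHom`, `iso`
-/

set_option autoImplicit false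
set_option maxRecDepth 100000

namespace Cfsg.Agent.SuzGTwo

open Cfsg.Lie Cfsg.Agent.CosetEnum
open Cfsg.Agent.CosetEnum.Data (ev)
open Cfsg.Agent.Unitary (GF4)

/-- The six generators. -/
inductive Six
  | a | b | c | d | e | f
  deriving DecidableEq

/-- generator `a` -/
abbrev wa : FreeGroup Six := FreeGroup.of Six.a
/-- generator `b` -/
abbrev wb : FreeGroup Six := FreeGroup.of Six.b
/-- generator `c` -/
abbrev wc : FreeGroup Six := FreeGroup.of Six.c
/-- generator `d` -/
abbrev wd : FreeGroup Six := FreeGroup.of Six.d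
/-- generator `e` -/
abbrev we : FreeGroup Six := FreeGroup.of Six.e
/-- generator `f` -/
abbrev wf : FreeGroup Six := FreeGroup.of Six.f

/-- The group presented by the relators of Suz in `a, …, f`. -/
def sixSetup : Setup Six where
  edges := [(.a, 5, .b), (.b, 3, .c), (.c, 8, .d), (.d, 3, .e), (.b, 3, .f)]
  extra := [wa * ((wc * wd) ^ 4)⁻¹, (wa * wb * wc * wf) ^ 5, ((wb * wc * wd * wc * wd) ^ 5 * we) ^ 3]
  gens := [.a, .b, .c, .d, .e, .f]
  pos := [0, 1, 2, 3, 4, 5]
  lt := [(.a, true), (.b, true), (.c, true), (.d, true), (.e, true), (.f, true)]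

/-- letters -/
def sixLetters : Data := letterData 6 [0, 1, 2, 3, 4, 5]

theorem sixSetup_gens : ∀ x, x ∈ sixSetup.gens := by intro x; cases x <;> simp [sixSetup]

theorem six_letters : sixSetup.lettersOK sixLetters = true := by decide +kernel

theorem six_bound4 :
    Nat.card (sixSetup.letterGroup [1]) ≤ 2 ∧ Nat.card (sixSetup.letterGroup [1]) ≠ 0 :=
  Setup.card_step sixSetup_gens six_letters suz_lvl4 suz_lvl4_check [1] (by decide +kernel) [] [] [] (by decide +kernel)
    (by decide +kernel) (by simp) (by intro w hw; simp at hw) (Setup.bound_nil sixSetup)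

theorem six_bound3 :
    Nat.card (sixSetup.letterGroup [1, 2]) ≤ 6 ∧ Nat.card (sixSetup.letterGroup [1, 2]) ≠ 0 :=
  Setup.card_step sixSetup_gens six_letters suz_lvl3 suz_lvl3_check [1, 2] (by decide +kernel) [wb] [] []
    (by decide +kernel) (by decide +kernel) (by simp) (by intro w hw; simp at hw)
    (Setup.bound_closure sixSetup_gens six_letters six_bound4 (by decide +kernel))

theorem six_bound2 :
    Nat.card (sixSetup.letterGroup [0, 1, 2, 3]) ≤ 2160 ∧ Nat.card (sixSetup.letterGroup [0, 1, 2, 3]) ≠ 0 := by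
  have h0 := Setup.seed_fixes (hs := [wb, wc]) (emb := [0, 1, 2, 3]) sixSetup_gens six_letters suz_lvl2_seed0_check
    (by decide +kernel)
  exact Setup.card_step sixSetup_gens six_letters suz_lvl2 suz_lvl2_check [0, 1, 2, 3] (by decide +kernel) [wb, wc]
    [suz_lvl2_seed0.tgt] [] (by decide +kernel) (by decide +kernel) (by simp) (by
      intro w hw
      simp only [List.mem_cons, List.not_mem_nil, or_false] at hw
      rcases hw with rfl
      exact h0) (Setup.bound_closure sixSetup_gens six_letters six_bound3 (by decide +kernel))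

theorem six_bound1 :
    Nat.card (sixSetup.letterGroup [0, 1, 2, 3, 4]) ≤ 604800 ∧ Nat.card (sixSetup.letterGroup [0, 1, 2, 3, 4]) ≠ 0 := by
  have h0 := Setup.seed_fixes (hs := [wa, wb, wc, wd]) (emb := [0, 1, 2, 3, 4]) sixSetup_gens six_letters
    suz_lvl1_seed0_check (by decide +kernel)
  exact Setup.card_step sixSetup_gens six_letters suz_lvl1 suz_lvl1_check [0, 1, 2, 3, 4] (by decide +kernel)
    [wa, wb, wc, wd] [suz_lvl1_seed0.tgt] [] (by decide +kernel) (by decide +kernel) (by simp) (by
      intro w hw
      simp only [List.mem_cons, List.not_mem_nil, or_false] at hw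
      rcases hw with rfl
      exact h0) (Setup.bound_closure sixSetup_gens six_letters six_bound2 (by decide +kernel))

theorem card_six_le : Nat.card sixSetup.G ≤ 251596800 ∧ Nat.card sixSetup.G ≠ 0 := by
  have h0 := Setup.seed_fixes (hs := [wa, wb, wc, wd, we]) (emb := [0, 1, 2, 3, 4, 5]) sixSetup_gens six_letters
    suz_lvl0_seed0_check (by decide +kernel)
  refine Setup.bound_univ sixSetup_gens six_letters (emb := [0, 1, 2, 3, 4, 5]) ?_ (by decide +kernel)
  exact Setup.card_step sixSetup_gens six_letters suz_lvl0 suz_lvl0_check [0, 1, 2, 3, 4, 5] (by decide +kernel)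
    [wa, wb, wc, wd, we] [suz_lvl0_seed0.tgt] [] (by decide +kernel) (by decide +kernel) (by simp) (by
      intro w hw
      simp only [List.mem_cons, List.not_mem_nil, or_false] at hw
      rcases hw with rfl
      exact h0) (Setup.bound_closure sixSetup_gens six_letters six_bound1 (by decide +kernel))

theorem finite_six : Finite sixSetup.G := Nat.finite_of_card_ne_zero card_six_le.2

/-- letter of a generator -/
def Six.num : Six → ℕ
  | .a => 0
  | .b => 1
  | .c => 2
  | .d => 3
  | .e => 4
  | .f => 5

theorem gmat_inv (a : ℕ) : (gmat a)⁻¹ = gmat a :=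
  inv_eq_of_mul_eq_one_right (Units.ext (by
    rw [Units.val_mul, Units.val_one]
    show toMat (genP a) * toMat (genP a) = 1
    rw [← toMat_mulP, genP_sq, toMat_oneP]))

theorem rels_check : (sixSetup.allRels.all fun r => evP (sixSetup.wl sixLetters r) == oneP) = true := by
  decide +kernel

theorem num_sg (x : Six) : sixSetup.sg x = x.num ∧ sixLetters.invl x.num = x.num := by
  cases x <;> exact ⟨by decide +kernel, by decide +kernel⟩

theorem lift_rel {r : FreeGroup Six} (hr : r ∈ sixSetup.rels) :
    FreeGroup.lift (fun x : Six => gmat x.num) r = 1 := by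
  rw [Setup.lift_eq_ev (S := sixSetup) (D := sixLetters) (fun x : Six => gmat x.num) gmat
    (fun x => by rw [(num_sg x).1]) (fun x => by rw [(num_sg x).1, (num_sg x).2, gmat_inv]) r]
  exact ev_eq_one (List.all_eq_true.mp rels_check r (sixSetup.mem_allRels hr))

/-- The representation by matrices. -/
noncomputable def matHom : sixSetup.G →* GL I14 GF4 :=
  PresentedGroup.toGroup (f := fun x : Six => gmat x.num) fun _ hr => lift_rel hr

theorem gmat_mem : ∀ a < 6, gmat a ∈ matHom.range := by
  intro a ha
  have h : ∀ x : Six, gmat x.num ∈ matHom.range := fun x =>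
    ⟨PresentedGroup.of x, PresentedGroup.toGroup.of _⟩
  interval_cases a
  · exact h .a
  · exact h .b
  · exact h .c
  · exact h .d
  · exact h .e
  · exact h .f

theorem card_chev : Nat.card ↥(chevG2.group GF4) = 251596800 := by
  rw [ChevOrder.card_G2 (q := 4) (by decide +kernel) Chev.DataG2.good]
  norm_num

theorem chev_le_range : chevG2.group GF4 ≤ matHom.range := by
  rw [ChevalleyDatum.group, Subgroup.closure_le]
  rintro g ⟨r, t, hg⟩
  have : g = ev gmat (rootWord r t) := Units.ext (hg.trans (rootWord_spec r t).symm)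
  rw [this]
  exact Setup.ev_mem _ _ _ fun a ha => gmat_mem a (Nat.blt_eq.mp (List.all_eq_true.mp (rootWord_lt r t) a ha) )

theorem matHom_spec : Function.Injective matHom ∧ matHom.range = chevG2.group GF4 := by
  have := finite_six
  have h1 : Nat.card matHom.range ≤ Nat.card sixSetup.G :=
    Nat.card_le_card_of_surjective _ matHom.rangeRestrict_surjective
  have h2 : Nat.card ↥(chevG2.group GF4) ≤ Nat.card matHom.range :=
    Nat.card_le_card_of_injective _ (Subgroup.inclusion_injective chev_le_range)
  rw [card_chev] at h2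
  have h3 := card_six_le.1
  refine ⟨?_, (Subgroup.eq_of_le_of_card_ge chev_le_range (h1.trans (h3.trans card_chev.ge))).symm⟩
  have hb : Function.Bijective matHom.rangeRestrict :=
    (Nat.bijective_iff_surjective_and_card _).mpr ⟨matHom.rangeRestrict_surjective, by omega⟩
  intro x y hxy
  exact hb.1 (Subtype.ext hxy)

theorem card_six : Nat.card sixSetup.G = 251596800 := by
  rw [Nat.card_congr (MonoidHom.ofInjective matHom_spec.1).toEquiv, matHom_spec.2, card_chev]

/-- generator of Suz -/
def Six.toSuz : Six → Cfsg.Spor.Suz.Gen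
  | .a => .a
  | .b => .b
  | .c => .c
  | .d => .d
  | .e => .e
  | .f => .f

theorem suz_rels_check :
    (sixSetup.allRels.all fun r => decide (FreeGroup.map Six.toSuz r ∈ suzSetup.allRels)) = true := by
  decide +kernel

/-- The map to Suz. -/
noncomputable def suzHom : sixSetup.G →* suzSetup.G :=
  PresentedGroup.toGroup (f := fun x : Six => (PresentedGroup.of x.toSuz : suzSetup.G)) fun r hr => by
    have h : FreeGroup.lift (fun x : Six => (PresentedGroup.of x.toSuz : suzSetup.G)) =
        (PresentedGroup.mk suzSetup.rels).comp (FreeGroup.map Six.toSuz) := by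
      ext x
      simp [PresentedGroup.of]
    rw [h, MonoidHom.comp_apply]
    exact PresentedGroup.one_of_mem (suzSetup.allRels_mem
      (of_decide_eq_true (List.all_eq_true.mp suz_rels_check r (sixSetup.mem_allRels hr))))

theorem suzHom_of (x : Six) :
    suzHom (PresentedGroup.of x) = PresentedGroup.mk suzSetup.rels (FreeGroup.of x.toSuz) :=
  PresentedGroup.toGroup.of _

theorem suzHom_range : suzHom.range = suzSetup.closureOf Cfsg.Agent.S1680.H1782 := by
  rw [MonoidHom.range_eq_map, ← PresentedGroup.closure_range_of, MonoidHom.map_closure, ← Set.range_comp,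
    Setup.closureOf]
  congr 1
  ext g
  constructor
  · rintro ⟨x, rfl⟩
    refine ⟨FreeGroup.of x.toSuz, ?_, (suzHom_of x).symm⟩
    cases x <;> simp [Cfsg.Agent.S1680.H1782, Six.toSuz]
  · rintro ⟨w, hw, rfl⟩
    simp only [Cfsg.Agent.S1680.H1782, Set.mem_ofPred_eq, List.mem_cons, List.not_mem_nil, or_false] at hw
    rcases hw with rfl | rfl | rfl | rfl | rfl | rfl
    · exact ⟨.a, suzHom_of .a⟩
    · exact ⟨.b, suzHom_of .b⟩
    · exact ⟨.c, suzHom_of .c⟩
    · exact ⟨.d, suzHom_of .d⟩
    · exact ⟨.e, suzHom_of .e⟩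
    · exact ⟨.f, suzHom_of .f⟩

theorem card_H1782 : Nat.card (suzSetup.closureOf Cfsg.Agent.S1680.H1782) = 251596800 := by
  have h := (suzSetup.closureOf Cfsg.Agent.S1680.H1782).index_mul_card
  rw [Setup.Table.index Cfsg.Agent.S1680.table, Cfsg.Agent.S1694.main.2, show suz1782.n = 1782 from rfl] at h
  omega

theorem suzHom_injective : Function.Injective suzHom := by
  have := finite_six
  have hb : Function.Bijective suzHom.rangeRestrict :=
    (Nat.bijective_iff_surjective_and_card _).mpr
      ⟨suzHom.rangeRestrict_surjective, by rw [suzHom_range, card_H1782, card_six]⟩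
  intro x y hxy
  exact hb.1 (Subtype.ext hxy)

/-- `⟨a, …, f⟩ ≅ G₂(4)`. -/
theorem iso : Nonempty (↥(suzSetup.closureOf Cfsg.Agent.S1680.H1782) ≃* ↥(chevG2.group GF4)) :=
  ⟨(MulEquiv.subgroupCongr suzHom_range.symm).trans <| (MonoidHom.ofInjective suzHom_injective).symm.trans <|
    (MonoidHom.ofInjective matHom_spec.1).trans (MulEquiv.subgroupCongr matHom_spec.2)⟩

end Cfsg.Agent.SuzGTwo
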