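import Cfsg.Agent.Lib.SuzGTwo.Data
import Cfsg.Agent.Lib.Unitary.Small32
import Cfsg.Agent.Lib.CosetEnum.Check
import Cfsg.Prelude.Def_ChevG2

/-!
Packed 14 × 14 matrices over the field with four elements, and the six images as invertible matrices (helper11).

* `toMat`, `mulP`, `toMat_mulP`
* `gmat`, `evP`, `coe_ev`, `rootWord_spec`
-/

set_option autoImplicit false

namespace Cfsg.Agent.SuzGTwo

open Cfsg.Lie
open Cfsg.Agent.Unitary (GF4)
open Cfsg.Agent.CosetEnum.Data (ev)

/-- index set -/
abbrev I14 : Type := chevG2.Idx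

/-- number of a coordinate -/
def idx : I14 → ℕ
  | .inl i => i.val
  | .inr s => 2 + s.val

/-- field element of two bits -/
def gfb : Bool → Bool → GF4
  | false, false => .zr
  | true, false => .un
  | false, true => .om
  | true, true => .om2

/-- entry of a row -/
def ent (r : ℕ × ℕ) (j : ℕ) : GF4 := gfb (r.1.testBit j) (r.2.testBit j)

/-- the matrix of a list of rows -/
def toMat (A : List (ℕ × ℕ)) : Matrix I14 I14 GF4 := Matrix.of fun i j => ent (A.getD (idx i) (0, 0)) (idx j)

/-- sum of rows -/
def addR (r s : ℕ × ℕ) : ℕ × ℕ := (r.1 ^^^ s.1, r.2 ^^^ s.2)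

/-- multiple of a row by the element with the given bits -/
def smulR : Bool → Bool → ℕ × ℕ → ℕ × ℕ
  | false, false, _ => (0, 0)
  | true, false, r => r
  | false, true, r => (r.2, r.1 ^^^ r.2)
  | true, true, r => (r.1 ^^^ r.2, r.1)

/-- a row times a matrix -/
def rowMul (r : ℕ × ℕ) (B : List (ℕ × ℕ)) : ℕ × ℕ :=
  ((List.range 14).map fun k => smulR (r.1.testBit k) (r.2.testBit k) (B.getD k (0, 0))).foldr addR (0, 0)

/-- product -/
def mulP (A B : List (ℕ × ℕ)) : List (ℕ × ℕ) := (List.range 14).map fun i => rowMul (A.getD i (0, 0)) B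

/-- identity -/
def oneP : List (ℕ × ℕ) := (List.range 14).map fun i => (2 ^ i, 0)

theorem gfb_xor : ∀ a b c d : Bool, gfb (a ^^ c) (b ^^ d) = gfb a b + gfb c d := by decide +kernel

theorem gfb_smul_aux : ∀ a b c d : Bool, (gfb a b * gfb c d) =
    (if a then (if b then gfb (c ^^ d) c else gfb c d) else (if b then gfb d (c ^^ d) else 0)) := by decide +kernel

theorem ent_addR (r s : ℕ × ℕ) (j : ℕ) : ent (addR r s) j = ent r j + ent s j := by
  simp [ent, addR, Nat.testBit_xor, gfb_xor]

theorem ent_zero (j : ℕ) : ent (0, 0) j = 0 := by simp [ent, gfb]; rfl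

theorem ent_smulR (a b : Bool) (r : ℕ × ℕ) (j : ℕ) : ent (smulR a b r) j = gfb a b * ent r j := by
  rw [ent, ent, gfb_smul_aux]
  cases a <;> cases b <;> simp [smulR, Nat.testBit_xor]
  rfl

theorem ent_foldr (l : List (ℕ × ℕ)) (j : ℕ) :
    ent (l.foldr addR (0, 0)) j = (l.map fun r => ent r j).sum := by
  induction l with
  | nil => simp [ent_zero]
  | cons a l ih => simp [ent_addR, ih]

theorem idx_lt (i : I14) : idx i < 14 := by
  rcases i with i | i
  · have : i.val < 2 := i.2
    show i.val < 14; omega
  · have : i.val < 12 := i.2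
    show 2 + i.val < 14; omega

theorem getD_range_map {α : Type} (f : ℕ → α) (d : α) {i : ℕ} (h : i < 14) :
    ((List.range 14).map f).getD i d = f i := by
  simp [List.getD_eq_getElem?_getD, h]

theorem sum_idx (f : ℕ → GF4) : ∑ k : I14, f (idx k) = ((List.range 14).map f).sum := by
  rw [Fintype.sum_sum_type]
  show (∑ a : Fin 2, f a.val) + (∑ s : Fin 12, f (2 + s.val)) = _
  simp [Fin.sum_univ_succ, List.range_succ, add_assoc]

theorem toMat_mulP (A B : List (ℕ × ℕ)) : toMat (mulP A B) = toMat A * toMat B := by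
  ext i j
  rw [Matrix.mul_apply, toMat, Matrix.of_apply, mulP, getD_range_map _ _ (idx_lt i), rowMul, ent_foldr,
    List.map_map]
  rw [← sum_idx]
  refine Finset.sum_congr rfl fun k _ => ?_
  simp only [Function.comp_apply, ent_smulR, toMat, Matrix.of_apply]
  rfl

theorem toMat_oneP : toMat oneP = 1 := by decide +kernel

/-- the packed image of a letter -/
def genP (a : ℕ) : List (ℕ × ℕ) := genTab.getD a oneP

theorem genP_sq_check : (genTab.all fun A => mulP A A == oneP) = true := by decide +kernel

theorem genP_sq (a : ℕ) : mulP (genP a) (genP a) = oneP := by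
  by_cases h : a < genTab.length
  · rw [genP, List.getD_eq_getElem _ _ h]
    exact eq_of_beq (List.all_eq_true.mp genP_sq_check _ (List.getElem_mem h))
  · rw [genP, List.getD_eq_default _ _ (by omega)]
    decide +kernel

/-- the image of a letter -/
def gmat (a : ℕ) : GL I14 GF4 where
  val := toMat (genP a)
  inv := toMat (genP a)
  val_inv := by rw [← toMat_mulP, genP_sq, toMat_oneP]
  inv_val := by rw [← toMat_mulP, genP_sq, toMat_oneP]

/-- packed value of a word -/
def evP : List ℕ → List (ℕ × ℕ)
  | [] => oneP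
  | a :: v => mulP (evP v) (genP a)

theorem coe_ev : ∀ w : List ℕ, ((ev gmat w : GL I14 GF4) : Matrix I14 I14 GF4) = toMat (evP w)
  | [] => by simp [ev, evP, toMat_oneP]
  | a :: v => by
    show ((ev gmat v * gmat a : GL I14 GF4) : Matrix I14 I14 GF4) = toMat (mulP (evP v) (genP a))
    rw [Units.val_mul, coe_ev v, toMat_mulP]
    rfl

theorem ev_eq_one {w : List ℕ} (h : (evP w == oneP) = true) : ev gmat w = 1 :=
  Units.ext (by rw [coe_ev, eq_of_beq h, toMat_oneP, Units.val_one])

/-- number of a field element -/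
def code : GF4 → ℕ
  | .zr => 0
  | .un => 1
  | .om => 2
  | .om2 => 3

/-- packed root element -/
def rootP (r : Fin chevG2.nroots) (t : GF4) : List (ℕ × ℕ) := (rootTab.getD (4 * r.val + code t) ([], [])).1

/-- word of a root element -/
def rootWord (r : Fin chevG2.nroots) (t : GF4) : List ℕ := (rootTab.getD (4 * r.val + code t) ([], [])).2

set_option maxRecDepth 100000 in
theorem rootP_spec : ∀ (r : Fin chevG2.nroots) (t : GF4), chevG2.xMat GF4 r t = toMat (rootP r t) := by
  decide +kernel

theorem rootWord_check : (rootTab.all fun p => evP p.2 == p.1) = true := by decide +kernel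

theorem rootTab_length : rootTab.length = 48 := by decide +kernel

theorem rootWord_lt : ∀ (r : Fin chevG2.nroots) (t : GF4), (rootWord r t).all (fun a => Nat.blt a 6) = true := by
  decide +kernel

theorem rootWord_spec (r : Fin chevG2.nroots) (t : GF4) :
    ((ev gmat (rootWord r t) : GL I14 GF4) : Matrix I14 I14 GF4) = chevG2.xMat GF4 r t := by
  have hlt : 4 * r.val + code t < rootTab.length := by
    have : r.val < 12 := r.2
    rw [rootTab_length]
    cases t <;> simp [code] <;> omega
  rw [coe_ev, rootP_spec, rootWord, rootP, List.getD_eq_getElem _ _ hlt,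
    eq_of_beq (List.all_eq_true.mp rootWord_check _ (List.getElem_mem hlt))]

end Cfsg.Agent.SuzGTwo
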